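import Groth.Agent.PlaneParam.Alg
import Groth.Agent.PlaneParam.Param
import Groth.Agent.ConeLines.Transfer
import Mathlib

/-! Singular forms depend on one parameter less. -/

namespace Groth.Agent.SingForms

open MvPolynomial ConeLines

universe u

variable {n d : ℕ}

/-- a monomial with the chart variable removed -/
noncomputable def remExp (i₀ : Fin (n + 1)) (e : Fin (n + 1) →₀ ℕ) : Fin n →₀ ℕ :=
  Finsupp.comapDomain i₀.succAbove e Fin.succAbove_right_injective.injOn

@[simp] theorem remExp_apply (i₀ : Fin (n + 1)) (e : Fin (n + 1) →₀ ℕ) (a : Fin n) :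
    remExp i₀ e a = e (i₀.succAbove a) := rfl

theorem degree_remExp (i₀ : Fin (n + 1)) (e : Fin (n + 1) →₀ ℕ) : e i₀ + (remExp i₀ e).degree = e.degree := by
  rw [Finsupp.degree_eq_sum, Finsupp.degree_eq_sum, Fin.sum_univ_succAbove _ i₀]
  rfl

theorem remExp_injOn (i₀ : Fin (n + 1)) : Function.Injective fun e : PlaneParam.Exps n d => remExp i₀ e.1 := by
  intro e e' h
  have h1 := degree_remExp i₀ e.1
  have h2 := degree_remExp i₀ e'.1
  rw [e.2] at h1
  rw [e'.2, ← show remExp i₀ e.1 = remExp i₀ e'.1 from h] at h2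
  refine Subtype.ext (Finsupp.ext fun j => ?_)
  induction j using Fin.succAboveCases i₀ with
  | x => omega
  | p a => exact congrArg (fun g : Fin n →₀ ℕ => g a) h

section Ring

theorem aeval_aeval' {σ τ υ : Type} {R : Type u} [CommRing R] (f : τ → MvPolynomial υ R) (g : σ → MvPolynomial τ R)
    (P : MvPolynomial σ R) : aeval f (aeval g P) = aeval (fun s => aeval f (g s)) P :=
  AlgHom.congr_fun (comp_aeval g (aeval f)) P

variable {R : Type u} [CommRing R]

/-- around a point of the chart, over any ring -/
noncomputable def shiftAt (i₀ : Fin (n + 1)) (v : Fin n → R) :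
    MvPolynomial (Fin (n + 1)) R →ₐ[R] MvPolynomial (Fin n) R :=
  aeval fun j => Fin.insertNth (α := fun _ => MvPolynomial (Fin n) R) i₀ 1 (fun a => X a + C (v a)) j

theorem loc_eq_shiftAt {K : Type u} [Field K] (i₀ : Fin (n + 1)) (v : Fin n → K) : loc i₀ v = shiftAt i₀ v := by
  refine MvPolynomial.algHom_ext fun j => ?_
  simp only [loc, shiftAt, aeval_X]
  induction j using Fin.succAboveCases i₀ with
  | x => simp [incl, pt]
  | p a =>
    simp only [Fin.insertNth_apply_succAbove, pt, incl, Fin.succAbove_right_inj]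
    rw [Finset.sum_eq_single a (fun b _ hb => by simp [hb.symm]) (by simp)]
    simp

theorem coeff_dehom (i₀ : Fin (n + 1)) {Φ : MvPolynomial (Fin (n + 1)) R} (hΦ : Φ.IsHomogeneous d)
    (e : PlaneParam.Exps n d) :
    coeff (remExp i₀ e.1) (aeval (Fin.insertNth (α := fun _ => MvPolynomial (Fin n) R) i₀ 1 X) Φ) = coeff e.1 Φ := by
  classical
  have hmon : ∀ e' : PlaneParam.Exps n d,
      aeval (Fin.insertNth (α := fun _ => MvPolynomial (Fin n) R) i₀ 1 X) (monomial e'.1 (coeff e'.1 Φ)) =
        monomial (remExp i₀ e'.1) (coeff e'.1 Φ) := by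
    intro e'
    rw [aeval_monomial, Finsupp.prod_fintype _ _ (fun _ => pow_zero _), Fin.prod_univ_succAbove _ i₀,
      monomial_eq, Finsupp.prod_fintype _ _ (fun _ => pow_zero _)]
    simp
  conv_lhs => rw [PlaneParam.eq_sum_exps hΦ, map_sum, coeff_sum]
  rw [Finset.sum_eq_single e]
  · rw [hmon, coeff_monomial, if_pos rfl]
  · intro b _ hb
    rw [hmon, coeff_monomial, if_neg fun h => hb (remExp_injOn i₀ h)]
  · simp

theorem coeff_eq_of_shift (i₀ : Fin (n + 1)) (v : Fin n → R) {Φ : MvPolynomial (Fin (n + 1)) R}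
    (hΦ : Φ.IsHomogeneous d) (e : PlaneParam.Exps n d) :
    coeff (remExp i₀ e.1) (aeval (fun a => X a - C (v a)) (shiftAt i₀ v Φ)) = coeff e.1 Φ := by
  rw [← coeff_dehom i₀ hΦ e]
  refine congrArg _ ?_
  rw [shiftAt, aeval_aeval']
  refine congrArg (fun f => aeval f Φ) (funext fun j => ?_)
  induction j using Fin.succAboveCases i₀ with
  | x => simp
  | p a => simp

end Ring

variable {k : Type u} [Field k]

/-- too few parameters give a relation -/
theorem exists_relation_chart (i₀ : Fin (n + 1)) {T : Type} [Fintype T] (τ : T → Fin n)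
    (A : Finset (Fin n →₀ ℕ)) {I : Type} [Fintype I] (ι : I → PlaneParam.Exps n d)
    (hcard : Fintype.card T + A.card < Fintype.card I) :
    ∃ P : MvPolynomial I k, P ≠ 0 ∧ ∀ (K : Type u) [Field K] [Algebra k K] (v : Fin n → K) (Φ : MvPolynomial (Fin (n + 1)) K),
      Φ.IsHomogeneous d → (∀ a, a ∉ Set.range τ → v a = 0) → (∀ g, g ∉ A → coeff g (loc i₀ v Φ) = 0) →
      aeval (fun i => coeff (ι i).1 Φ) P = 0 := by
  classical
  let σ := T ⊕ {g // g ∈ A}
  let vu : Fin n → MvPolynomial σ k := fun a => if h : a ∈ Set.range τ then X (Sum.inl h.choose) else 0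
  let gu : MvPolynomial (Fin n) (MvPolynomial σ k) := ∑ g : {g // g ∈ A}, monomial g.1 (X (Sum.inr g))
  let φ : I → MvPolynomial σ k := fun i => coeff (remExp i₀ (ι i).1) (aeval (fun a => X a - C (vu a)) gu)
  obtain ⟨P, hP0, hP⟩ := PlaneParam.exists_relation (k := k) (κ := σ) (by simpa [σ] using hcard) φ
  refine ⟨P, hP0, fun K _ _ v Φ hΦ hv hg => ?_⟩
  set θ : σ → K := Sum.elim (fun t => v (τ t)) fun g => coeff g.1 (loc i₀ v Φ)
  let ev : MvPolynomial σ k →+* K := (aeval θ : MvPolynomial σ k →ₐ[k] K).toRingHom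
  have hvu : ∀ a, ev (vu a) = v a := fun a => by
    simp only [vu]
    split_ifs with h
    · show aeval θ (X _) = _
      rw [aeval_X]
      simp [θ, h.choose_spec]
    · rw [map_zero, hv a h]
  have hgu : map ev gu = loc i₀ v Φ := by
    refine MvPolynomial.ext _ _ fun g => ?_
    simp only [gu, map_sum, map_monomial, coeff_sum, coeff_monomial]
    by_cases hgA : g ∈ A
    · rw [Finset.sum_eq_single (⟨g, hgA⟩ : {g // g ∈ A}) (fun b _ hb => if_neg fun h => hb (Subtype.ext h)) (by simp),
        if_pos rfl]
      show aeval θ (X _) = _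
      rw [aeval_X]
      rfl
    · rw [hg g hgA, Finset.sum_eq_zero fun b _ => if_neg (fun h : b.1 = g => hgA (h ▸ b.2))]
  have hφ : ∀ i, aeval θ (φ i) = coeff (ι i).1 Φ := fun i => by
    show ev (φ i) = _
    rw [← coeff_eq_of_shift i₀ v hΦ (ι i), ← loc_eq_shiftAt, ← coeff_map, ← hgu]
    refine congrArg _ ?_
    induction gu using MvPolynomial.induction_on with
    | C r => simp
    | add p q hp hq => simp only [map_add, hp, hq]
    | mul_X p a hp => simp only [map_mul, hp, aeval_X, map_X, map_sub, map_C, hvu]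
  rw [show (fun i => coeff (ι i).1 Φ) = fun i => aeval θ (φ i) from funext fun i => (hφ i).symm,
    ← comp_aeval_apply, hP, map_zero]

/-- exponents on a set of variables -/
def SuppIn {m : ℕ} (S : Finset (Fin m)) (e : Fin m →₀ ℕ) : Prop := ∀ j, j ∉ S → e j = 0

/-- kill the variables outside a set -/
noncomputable def restr {R : Type u} [CommRing R] {m : ℕ} (S : Finset (Fin m)) :
    MvPolynomial (Fin m) R →ₐ[R] MvPolynomial (Fin m) R :=
  aeval fun j => if j ∈ S then X j else 0

theorem coeff_restr {R : Type u} [CommRing R] {m : ℕ} (S : Finset (Fin m)) (p : MvPolynomial (Fin m) R) (e : Fin m →₀ ℕ)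
    [Decidable (SuppIn S e)] : coeff e (restr S p) = if SuppIn S e then coeff e p else 0 := by
  classical
  induction p using MvPolynomial.induction_on' with
  | monomial u a =>
    by_cases hu : SuppIn S u
    · have e1 : restr S (monomial u a) = monomial u a := by
        rw [restr, aeval_monomial, monomial_eq, algebraMap_eq]
        refine congrArg _ (Finsupp.prod_congr fun j hj => ?_)
        have : j ∈ S := by
          by_contra h
          exact Finsupp.mem_support_iff.1 hj (hu j h)
        simp [this]
      rw [e1, coeff_monomial]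
      split_ifs with h1 h2 <;> first | rfl | exact absurd (h1 ▸ hu) h2
    · obtain ⟨j, hj, hj'⟩ : ∃ j, j ∉ S ∧ u j ≠ 0 := by simpa [SuppIn] using hu
      have e1 : restr S (monomial u a) = 0 := by
        rw [restr, aeval_monomial, Finsupp.prod, Finset.prod_eq_zero (Finsupp.mem_support_iff.2 hj') (by simp [hj, zero_pow hj']),
          mul_zero]
      rw [e1, coeff_zero, coeff_monomial]
      split_ifs with h1 h2 <;> first | rfl | exact absurd h1 (h2 ▸ hu)
  | add p q hp hq =>
    rw [map_add, coeff_add, hp, hq, coeff_add]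
    split_ifs <;> simp

theorem restr_eq_zero {R : Type u} [CommRing R] {S : Finset (Fin (n + 1))} {Φ : MvPolynomial (Fin (n + 1)) R}
    (hΦ : Φ.IsHomogeneous d) (h : ∀ e : PlaneParam.Exps n d, SuppIn S e.1 → coeff e.1 Φ = 0) : restr S Φ = 0 := by
  classical
  refine MvPolynomial.ext _ _ fun e => ?_
  rw [coeff_restr, coeff_zero]
  split_ifs with hs
  · by_cases he : e.degree = d
    · exact h ⟨e, he⟩ hs
    · exact hΦ.coeff_eq_zero he
  · rfl

variable {K : Type u} [Field K]

theorem coeff_single_loc (i₀ : Fin (n + 1)) (v : Fin n → K) (Φ : MvPolynomial (Fin (n + 1)) K) (a : Fin n) :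
    coeff (Finsupp.single a 1) (loc i₀ v Φ) = eval (pt i₀ v) (pderiv (i₀.succAbove a) Φ) := by
  classical
  have h1 : coeff 0 (pderiv a (loc i₀ v Φ)) = coeff (Finsupp.single a 1) (loc i₀ v Φ) := by
    rw [coeff_pderiv]; simp
  rw [← h1, ← constantCoeff_eq, ← eval_zero, loc_eq_shiftAt, shiftAt, PlaneParam.pderiv_aeval', map_sum]
  rw [Finset.sum_eq_single (i₀.succAbove a)]
  · rw [map_mul, Fin.insertNth_apply_succAbove, ← shiftAt, ← loc_eq_shiftAt, eval_loc]
    simp [pt]
  · intro j _ hj
    induction j using Fin.succAboveCases i₀ with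
    | x => simp
    | p b =>
      have : b ≠ a := fun h => hj (h ▸ rfl)
      simp [pderiv_X_of_ne this]
  · simp

theorem coeff_zero_loc (i₀ : Fin (n + 1)) (v : Fin n → K) (Φ : MvPolynomial (Fin (n + 1)) K) :
    coeff 0 (loc i₀ v Φ) = eval (pt i₀ v) Φ := by
  rw [← constantCoeff_eq, ← eval_zero, eval_loc, add_zero, pt]

theorem coeff_top_loc (i₀ : Fin (n + 1)) (v : Fin n → K) {Φ : MvPolynomial (Fin (n + 1)) K} (hΦ : Φ.IsHomogeneous d)
    {g : Fin n →₀ ℕ} (hg : g.degree = d) :
    coeff g (loc i₀ v Φ) = coeff g (aeval (Fin.insertNth (α := fun _ => MvPolynomial (Fin n) K) i₀ 0 X) Φ) := by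
  classical
  have hM : (fun j => ∑ a, C (incl i₀ j a) * X a : Fin (n + 1) → MvPolynomial (Fin n) K) =
      Fin.insertNth (α := fun _ => MvPolynomial (Fin n) K) i₀ 0 X := by
    funext j
    induction j using Fin.succAboveCases i₀ with
    | x => simp [incl]
    | p a =>
      rw [Fin.insertNth_apply_succAbove, Finset.sum_eq_single a (fun b _ hb => by simp [incl, hb.symm]) (by simp)]
      simp [incl]
  have h := affine_subst (fun j a => incl i₀ j a) (pt i₀ v) hΦ
  rw [hM] at h
  rw [← sub_eq_zero, ← coeff_sub]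
  by_contra hne
  exact (h g (mem_support_iff.2 hne)).ne hg

/-- the exponents of forms vanishing on a coordinate subspace -/
def Off (S : Finset (Fin (n + 1))) (d : ℕ) := {e : PlaneParam.Exps n d // ¬ SuppIn S e.1}

noncomputable instance (S : Finset (Fin (n + 1))) : Fintype (Off S d) := by
  classical
  unfold Off; infer_instance

noncomputable instance (S : Finset (Fin (n + 1))) : DecidableEq (Off S d) := Classical.decEq _

/-- singular forms through a coordinate subspace satisfy a relation -/
theorem exists_singular_relation (hd : 2 ≤ d) (S : Finset (Fin (n + 1))) (hS : 2 * S.card ≤ n + 1) (i₀ : Fin (n + 1)) :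
    ∃ P : MvPolynomial (Off S d) k, P ≠ 0 ∧ ∀ (K : Type u) [Field K] [Algebra k K] (w : Fin (n + 1) → K)
      (Φ : MvPolynomial (Fin (n + 1)) K), Φ.IsHomogeneous d → w i₀ ≠ 0 → ((i₀ ∈ S) → ∀ j, j ∉ S → w j = 0) →
      (∀ e : PlaneParam.Exps n d, SuppIn S e.1 → coeff e.1 Φ = 0) →
      eval w Φ = 0 → (∀ i, eval w (pderiv i Φ) = 0) → aeval (fun e : Off S d => coeff e.1.1 Φ) P = 0 := by
  classical
  let S' : Finset (Fin n) := Finset.univ.filter fun a => i₀.succAbove a ∈ S
  let B : Finset (Fin n →₀ ℕ) := Finset.univ.image fun e : Off S d => remExp i₀ e.1.1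
  have hBcard : B.card = Fintype.card (Off S d) := by
    exact (Finset.card_image_of_injective _ fun e e' h => Subtype.ext (remExp_injOn i₀ h)).trans Finset.card_univ
  have hmemB : ∀ g : Fin n →₀ ℕ, g ∈ B ↔ g.degree ≤ d ∧ ((i₀ ∈ S ∨ g.degree = d) → ¬ SuppIn S' g) := by
    intro g
    simp only [B, Finset.mem_image, Finset.mem_univ, true_and]
    constructor
    · rintro ⟨e, rfl⟩
      have hdeg := degree_remExp i₀ e.1.1
      rw [e.1.2] at hdeg
      refine ⟨by omega, fun h hsupp => e.2 fun j hj => ?_⟩
      induction j using Fin.succAboveCases i₀ with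
      | x =>
        rcases h with h | h
        · exact absurd h hj
        · omega
      | p a => exact hsupp a (by simp [S', hj])
    · rintro ⟨hle, himp⟩
      let e : PlaneParam.Exps n d := ⟨Finsupp.equivFunOnFinite.symm (Fin.insertNth i₀ (d - g.degree) g), by
        rw [Finsupp.degree_eq_sum, Fin.sum_univ_succAbove _ i₀]
        simp [← Finsupp.degree_eq_sum]
        omega⟩
      refine ⟨⟨e, fun hs => ?_⟩, Finsupp.ext fun a => by simp [e]⟩
      have hs' : SuppIn S' g := fun a ha => by
        simpa [e] using hs (i₀.succAbove a) (by simpa [S'] using ha)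
      by_cases h : i₀ ∈ S
      · exact himp (Or.inl h) hs'
      · refine himp (Or.inr ?_) hs'
        have := hs i₀ h
        simp [e] at this
        omega
  have hS' : i₀ ∈ S → S'.card + 1 = S.card := fun h => by
    have : S' = (S.erase i₀).preimage i₀.succAbove Fin.succAbove_right_injective.injOn := by
      ext a; simp [S', Fin.succAbove_ne]
    rw [this, Finset.card_preimage, Finset.filter_true_of_mem (fun x hx => by
      rw [Fin.range_succAbove]; exact (Finset.ne_of_mem_erase hx)), Finset.card_erase_of_mem h]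
    have := Finset.card_pos.2 ⟨i₀, h⟩
    omega
  let T : Finset (Fin n) := if i₀ ∈ S then S' else Finset.univ
  let Rm : Finset (Fin n →₀ ℕ) := (if i₀ ∈ S then (Finset.univ.filter fun a => a ∉ S') else Finset.univ).image
    (fun a => Finsupp.single a 1) ∪ if i₀ ∈ S then ∅ else {0}
  let A := B \ Rm
  have hRm : Rm ⊆ B := fun g hg => by
    rw [hmemB]
    simp only [Rm, Finset.mem_union, Finset.mem_image] at hg
    rcases hg with ⟨a, ha, rfl⟩ | hg
    · rw [Finsupp.degree_single]
      refine ⟨by omega, fun h hs => ?_⟩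
      by_cases hi : i₀ ∈ S
      · rw [if_pos hi, Finset.mem_filter] at ha
        simpa using hs a ha.2
      · rcases h with h | h
        · exact hi h
        · omega
    · by_cases hi : i₀ ∈ S
      · rw [if_pos hi] at hg; simp at hg
      · rw [if_neg hi, Finset.mem_singleton] at hg
        subst hg
        refine ⟨by simp, fun h _ => ?_⟩
        rcases h with h | h
        · exact hi h
        · simp at h; omega
  have hcard : Fintype.card {a // a ∈ T} + A.card < Fintype.card (Off S d) := by
    rw [Fintype.card_coe, ← hBcard]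
    have h1 : A.card = B.card - Rm.card := Finset.card_sdiff_of_subset hRm
    have h2 := Finset.card_le_card hRm
    have hinj : Function.Injective fun a : Fin n => Finsupp.single a (1 : ℕ) := fun a b h => by
      simpa using Finsupp.single_left_injective one_ne_zero h
    have h3 : T.card < Rm.card := by
      by_cases hi : i₀ ∈ S
      · have := hS' hi
        simp only [T, Rm, if_pos hi, Finset.union_empty, Finset.card_image_of_injective _ hinj]
        rw [Finset.filter_not, Finset.card_univ_diff, Fintype.card_fin]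
        simp
        omega
      · simp only [T, Rm, if_neg hi]
        rw [Finset.card_union_of_disjoint (by simp [Finset.disjoint_left, eq_comm]), Finset.card_image_of_injective _ hinj]
        simp
    omega
  obtain ⟨P, hP0, hP⟩ := exists_relation_chart (k := k) i₀ (T := {a // a ∈ T}) Subtype.val A
    (fun e : Off S d => e.1) hcard
  refine ⟨P, hP0, fun K _ _ w Φ hΦ hw hwS hΦS h0 hder => ?_⟩
  let v : Fin n → K := fun a => w (i₀.succAbove a) / w i₀
  have hwv : w = w i₀ • pt i₀ v := by
    funext j
    induction j using Fin.succAboveCases i₀ with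
    | x => simp [pt]
    | p a => simp [pt, v, mul_div_cancel₀ _ hw]
  have hzero : ∀ {r : ℕ} (F : MvPolynomial (Fin (n + 1)) K), F.IsHomogeneous r → eval w F = 0 → eval (pt i₀ v) F = 0 := by
    intro r F hF h
    rw [hwv, eval_smul' hF, mul_eq_zero] at h
    exact h.resolve_left (pow_ne_zero _ hw)
  refine hP K v Φ hΦ (fun a ha => ?_) fun g hg => ?_
  · by_cases hi : i₀ ∈ S
    · have : a ∉ S' := fun h => ha ⟨⟨a, by simpa [T, hi] using h⟩, rfl⟩
      simp [v, hwS hi _ (show i₀.succAbove a ∉ S by simpa [S'] using this)]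
    · exact absurd ⟨⟨a, by simp [T, hi]⟩, rfl⟩ ha
  by_cases hgd : d < g.degree
  · exact coeff_eq_zero_of_totalDegree_lt (lt_of_le_of_lt (totalDegree_loc i₀ v hΦ) hgd)
  by_cases hgB : g ∈ B
  · have hgR : g ∈ Rm := by
      by_contra h
      exact hg (Finset.mem_sdiff.2 ⟨hgB, h⟩)
    simp only [Rm, Finset.mem_union, Finset.mem_image] at hgR
    rcases hgR with ⟨a, -, rfl⟩ | hgR
    · rw [coeff_single_loc]; exact hzero _ hΦ.pderiv (hder _)
    · by_cases hi : i₀ ∈ S
      · rw [if_pos hi] at hgR; simp at hgR
      · rw [if_neg hi, Finset.mem_singleton] at hgR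
        rw [hgR, coeff_zero_loc]; exact hzero _ hΦ h0
  rw [hmemB] at hgB
  push Not at hgB
  obtain ⟨hcase, hsupp⟩ := hgB (by omega)
  have hr := restr_eq_zero hΦ hΦS
  by_cases hi : i₀ ∈ S
  · have hvz : ∀ a, a ∉ S' → v a = 0 := fun a ha => by
      simp [v, hwS hi _ (show i₀.succAbove a ∉ S by simpa [S'] using ha)]
    have e : restr S' (loc i₀ v Φ) = loc i₀ v (restr S Φ) := by
      rw [loc_eq_shiftAt, shiftAt, restr, restr, aeval_aeval', aeval_aeval']
      refine congrArg (fun f => aeval f Φ) (funext fun j => ?_)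
      induction j using Fin.succAboveCases i₀ with
      | x => simp [hi]
      | p a =>
        by_cases ha : a ∈ S'
        · have : i₀.succAbove a ∈ S := by simpa [S'] using ha
          simp [ha, this]
        · have : i₀.succAbove a ∉ S := by simpa [S'] using ha
          simp [ha, this, hvz a ha]
    have := congrArg (coeff g) e
    rwa [hr, map_zero, coeff_zero, coeff_restr, if_pos hsupp] at this
  · have hgd' : g.degree = d := hcase.resolve_left hi
    rw [coeff_top_loc i₀ v hΦ hgd']
    have e : restr S' (aeval (Fin.insertNth (α := fun _ => MvPolynomial (Fin n) K) i₀ 0 X) Φ) =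
        aeval (Fin.insertNth (α := fun _ => MvPolynomial (Fin n) K) i₀ 0 X) (restr S Φ) := by
      rw [restr, restr, aeval_aeval', aeval_aeval']
      refine congrArg (fun f => aeval f Φ) (funext fun j => ?_)
      induction j using Fin.succAboveCases i₀ with
      | x => simp [hi]
      | p a =>
        by_cases ha : a ∈ S'
        · have : i₀.succAbove a ∈ S := by simpa [S'] using ha
          simp [ha, this]
        · have : i₀.succAbove a ∉ S := by simpa [S'] using ha
          simp [ha, this]
    have := congrArg (coeff g) e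
    rwa [hr, map_zero, coeff_zero, coeff_restr, if_pos hsupp] at this

end Groth.Agent.SingForms
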