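import Mathlib

/-! Specialisation of zeros of homogeneous systems. -/

namespace Groth.Agent.SingForms

open MvPolynomial

universe u

variable {k : Type u} [Field k]

theorem exists_valuation {F : Type u} [Field F] [Algebra k F] {σ : Type} (x : σ → F) (c : σ → k)
    (hc : ∀ Q : MvPolynomial σ k, aeval x Q = 0 → eval c Q = 0) :
    ∃ (O : ValuationSubring F) (ψ : MvPolynomial σ k →+* O), (∀ Q, (ψ Q : F) = aeval x Q) ∧
      ∀ Q, IsLocalRing.residue O (ψ Q) = IsLocalRing.residue O (ψ (C (eval c Q))) := by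
  let Φ : MvPolynomial σ k →+* F := (aeval x : MvPolynomial σ k →ₐ[k] F).toRingHom
  let I : Ideal Φ.range := (RingHom.ker (eval c)).map Φ.rangeRestrict
  have hI : I ≠ ⊤ := fun h => by
    obtain ⟨q, hq, hq1⟩ := (Ideal.mem_map_iff_of_surjective _ Φ.rangeRestrict_surjective).1
      ((Ideal.eq_top_iff_one I).1 h)
    have h1 : aeval x (q - 1) = 0 := by
      rw [map_sub, map_one, sub_eq_zero]
      exact (congrArg Subtype.val hq1 : _)
    have h2 := hc _ h1
    rw [RingHom.mem_ker] at hq
    rw [map_sub, map_one, hq, zero_sub, neg_eq_zero] at h2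
    exact one_ne_zero h2
  obtain ⟨O, hO, hIO⟩ := Ideal.image_subset_nonunits_valuationSubring I hI
  refine ⟨O, Φ.codRestrict O.toSubring fun q => hO ⟨q, rfl⟩, fun q => rfl, fun q => ?_⟩
  rw [← sub_eq_zero, ← map_sub, ← map_sub, IsLocalRing.residue_eq_zero_iff]
  exact O.coe_mem_nonunits_iff.1 (hIO ⟨Φ.rangeRestrict (q - C (eval c q)), Ideal.mem_map_of_mem _ (by
    rw [RingHom.mem_ker, map_sub, eval_C, sub_self]), rfl⟩)

theorem eval_smul_hom {σ : Type} {S : Type*} [CommRing S] {δ : ℕ} {P : MvPolynomial σ S} (hP : P.IsHomogeneous δ)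
    (τ : S) (x : σ → S) : eval (τ • x) P = τ ^ δ * eval x P := by
  rw [eval_eq, eval_eq, Finset.mul_sum]
  refine Finset.sum_congr rfl fun e he => ?_
  have hd : e.degree = δ := by
    by_contra h
    exact mem_support_iff.1 he (hP.coeff_eq_zero h)
  simp only [Pi.smul_apply, smul_eq_mul, mul_pow, Finset.prod_mul_distrib, Finset.prod_pow_eq_pow_sum]
  rw [show (∑ i ∈ e.support, e i) = δ from hd]
  ring

/-- a nonzero zero over an extension gives one over an algebraically closed field -/
theorem descend [IsAlgClosed k] {κ : Type u} [Field κ] (j : k →+* κ) {m : ℕ} {ι : Type} (δ : ι → ℕ)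
    (H : ι → MvPolynomial (Fin m) k) (hH : ∀ i, (H i).IsHomogeneous (δ i))
    (w : Fin m → κ) (hw : w ≠ 0) (hz : ∀ i, eval w (map j (H i)) = 0) :
    ∃ z : Fin m → k, z ≠ 0 ∧ ∀ i, eval z (H i) = 0 := by
  obtain ⟨a, ha⟩ := Function.ne_iff.1 hw
  let J : Ideal (MvPolynomial (Fin m) k) := Ideal.span (Set.range H ∪ {X a - 1})
  let Θ : MvPolynomial (Fin m) k →+* κ := eval₂Hom j fun b => (w a)⁻¹ * w b
  have hle : J ≤ RingHom.ker Θ := Ideal.span_le.2 (by
    rintro q (⟨i, rfl⟩ | hq)
    · show eval₂ j _ (H i) = 0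
      rw [← eval_map]
      exact (eval_smul_hom ((hH i).map j) (w a)⁻¹ w).trans (by rw [hz i, mul_zero])
    · rw [Set.mem_singleton_iff.1 hq, SetLike.mem_coe, RingHom.mem_ker, map_sub, map_one]
      simp only [Θ, eval₂Hom_X']
      rw [inv_mul_cancel₀ ha, sub_self])
  obtain ⟨μ, hμ, hJμ⟩ := Ideal.exists_le_maximal J (ne_top_of_le_ne_top (RingHom.ker_ne_top Θ) hle)
  obtain ⟨z, hz'⟩ := MvPolynomial.isMaximal_iff_eq_vanishingIdeal_singleton.1 hμ
  have hmem : ∀ q ∈ J, eval z q = 0 := fun q hq => by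
    have := hJμ hq
    rw [hz', mem_vanishingIdeal_singleton_iff] at this
    simpa [aeval_eq_eval] using this
  refine ⟨z, fun h => ?_, fun i => hmem _ (Ideal.subset_span (Or.inl ⟨i, rfl⟩))⟩
  have := hmem _ (Ideal.subset_span (Or.inr rfl) : X a - 1 ∈ J)
  rw [map_sub, map_one, eval_X, h] at this
  simp at this

/-- zeros of a homogeneous system specialise -/
theorem specialize [IsAlgClosed k] {F : Type u} [Field F] [Algebra k F] {σ : Type} (x : σ → F) (c : σ → k)
    (hc : ∀ Q : MvPolynomial σ k, aeval x Q = 0 → eval c Q = 0) {m : ℕ} {ι : Type} (δ : ι → ℕ)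
    (H : ι → MvPolynomial (Fin m) (MvPolynomial σ k)) (hH : ∀ i, (H i).IsHomogeneous (δ i))
    (w : Fin m → F) (hw : w ≠ 0) (hz : ∀ i, eval w (map (aeval x : MvPolynomial σ k →ₐ[k] F).toRingHom (H i)) = 0) :
    ∃ z : Fin m → k, z ≠ 0 ∧ ∀ i, eval z (map (eval c) (H i)) = 0 := by
  obtain ⟨O, ψ, hψ, hres⟩ := exists_valuation x c hc
  haveI : Nonempty (Fin m) := ⟨(Function.ne_iff.1 hw).choose⟩
  obtain ⟨a, -, hmax⟩ := Finset.exists_max_image (Finset.univ : Finset (Fin m)) (fun b => O.valuation (w b))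
    Finset.univ_nonempty
  have ha : w a ≠ 0 := fun h => hw (funext fun b => by
    have h1 := hmax b (Finset.mem_univ b)
    rw [h, map_zero, le_zero_iff, map_eq_zero] at h1
    exact h1)
  have hmem : ∀ b, w b / w a ∈ O := fun b => by
    rw [← O.valuation_le_one_iff, map_div₀]
    exact div_le_one_of_le₀ (hmax b (Finset.mem_univ b)) zero_le'
  let u : Fin m → O := fun b => ⟨w b / w a, hmem b⟩
  let res := IsLocalRing.residue O
  refine descend (res.comp (ψ.comp C)) δ _ (fun i => (hH i).map _) (fun b => res (u b)) (fun h => ?_) fun i => ?_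
  · have h1 : u a = 1 := Subtype.ext (div_self ha)
    have := congrFun h a
    simp [res, h1] at this
  · have h0 : eval u (map ψ (H i)) = 0 := by
      apply Subtype.val_injective
      show O.subtype (eval u (map ψ (H i))) = _
      rw [eval_map, eval₂_comp_left O.subtype, ← eval_map,
        show O.subtype.comp ψ = (aeval x : MvPolynomial σ k →ₐ[k] F).toRingHom from RingHom.ext hψ]
      have hu : O.subtype ∘ u = (w a)⁻¹ • w := funext fun b => by simp [u, div_eq_mul_inv, mul_comm]
      rw [hu, eval_smul_hom ((hH i).map _), hz i, mul_zero]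
      rfl
    rw [map_map, show (res.comp (ψ.comp C)).comp (eval c) = res.comp ψ from RingHom.ext fun q => (hres q).symm,
      eval_map]
    show eval₂ (res.comp ψ) (res ∘ u) (H i) = 0
    rw [← eval₂_comp_left res, ← eval_map, h0, map_zero]

end Groth.Agent.SingForms
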