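import Groth.Agent.SingForms.Basic
import Groth.Agent.SingForms.Specialize
import Groth.Agent.PlaneParam.Generic
import Groth.Agent.VarDim.Basic

/-! The discriminant of forms is irreducible. -/

namespace Groth.Agent.SingForms

open MvPolynomial ConeLines

universe u

variable {k : Type u} [Field k] {n d : ℕ}

/-- singular form -/
def IsSing (G : MvPolynomial (Fin (n + 1)) k) : Prop :=
  ∃ v : Fin (n + 1) → k, v ≠ 0 ∧ eval v G = 0 ∧ ∀ i, eval v (pderiv i G) = 0

open scoped IntermediateField.algebraAdjoinAdjoin in
theorem card_le_trdeg_of_isAlgebraic {K : Type u} [Field K] [Algebra k K] {ι κ : Type} [Fintype ι] [Fintype κ]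
    (c : ι → K) (hc : AlgebraicIndependent k c) (γ : κ → K)
    (halg : ∀ i, IsAlgebraic (IntermediateField.adjoin k (Set.range γ)) (c i)) :
    (Fintype.card ι : Cardinal.{u}) ≤ Algebra.trdeg k (Algebra.adjoin k (Set.range γ)) := by
  set E0 := IntermediateField.adjoin k (Set.range γ)
  set Z := algebraicClosure E0 K
  have hc' : AlgebraicIndependent k (fun i => (⟨c i, mem_algebraicClosure_iff.2 (halg i)⟩ : Z)) :=
    AlgebraicIndependent.of_comp (Z.val.restrictScalars k) (by exact hc)
  have h1 := hc'.lift_cardinalMk_le_trdeg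
  have h2 : Algebra.trdeg k Z = Algebra.trdeg k E0 := by
    haveI : FaithfulSMul E0 Z := (faithfulSMul_iff_algebraMap_injective _ _).2 (RingHom.injective (algebraMap E0 Z))
    rw [← trdeg_add_eq k E0 (A := Z), trdeg_eq_zero (R := E0) (A := Z), add_zero]
  have h3 : Algebra.trdeg k E0 = Algebra.trdeg k (Algebra.adjoin k (Set.range γ)) := by
    haveI : Algebra.IsAlgebraic (Algebra.adjoin k (Set.range γ)) E0 :=
      IsLocalization.isAlgebraic E0 (nonZeroDivisors (Algebra.adjoin k (Set.range γ)))
    rw [← trdeg_add_eq k (Algebra.adjoin k (Set.range γ)) (A := E0),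
      trdeg_eq_zero (R := Algebra.adjoin k (Set.range γ)) (A := E0), add_zero]
  rw [h2, h3] at h1
  simpa using h1

/-- exponents of degree `2, …, d` -/
noncomputable def highExps (n d : ℕ) : Finset (Fin n →₀ ℕ) :=
  (finite_deg_le n d).toFinset.filter fun g => 2 ≤ g.degree

theorem exists_single_of_degree_one {g : Fin n →₀ ℕ} (h1 : g.degree = 1) : ∃ a, g = Finsupp.single a 1 := by
  have hne : g ≠ 0 := fun h0 => by rw [h0, map_zero] at h1; omega
  obtain ⟨a, ha⟩ := Finsupp.ne_iff.1 hne
  refine ⟨a, Finsupp.ext fun b => ?_⟩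
  rw [Finsupp.degree_eq_sum] at h1
  have hle : g a + ∑ x ∈ Finset.univ.erase a, g x = 1 := by
    rw [Finset.add_sum_erase _ _ (Finset.mem_univ a)]; exact h1
  simp only [Finsupp.coe_zero, Pi.zero_apply] at ha
  by_cases hb : b = a
  · subst hb; simp; omega
  · rw [Finsupp.single_eq_of_ne hb]
    have := Finset.single_le_sum (f := fun x => g x) (fun _ _ => Nat.zero_le _) (Finset.mem_erase.2 ⟨hb, Finset.mem_univ b⟩)
    omega

theorem mem_highExps {g : Fin n →₀ ℕ} : g ∈ highExps n d ↔ g.degree ≤ d ∧ 2 ≤ g.degree := by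
  simp [highExps]

theorem card_highExps (hd : 1 ≤ d) : (highExps n d).card + (n + 1) = (n + d).choose d := by
  classical
  have h0 : Fintype.card (Mon n d) = (highExps n d).card + n := by
    have e : Fintype.card (Mon n d) = ((highExps n d) ∪ Finset.univ.image fun a : Fin n => Finsupp.single a 1).card := by
      rw [← Fintype.card_coe]
      refine Fintype.card_congr (Equiv.subtypeEquivRight fun g => ?_)
      simp only [Finset.mem_union, mem_highExps, Finset.mem_image, Finset.mem_univ, true_and]
      constructor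
      · intro h
        by_cases h2 : 2 ≤ g.degree
        · exact Or.inl ⟨h.2, h2⟩
        · right
          have h1 : g.degree = 1 := by omega
          have hne : g ≠ 0 := fun h0 => by rw [h0, map_zero] at h1; omega
          obtain ⟨a, ha⟩ := Finsupp.ne_iff.1 hne
          refine ⟨a, Finsupp.ext fun b => ?_⟩
          rw [Finsupp.degree_eq_sum] at h1
          have hle : g a + ∑ x ∈ Finset.univ.erase a, g x = 1 := by
            rw [Finset.add_sum_erase _ _ (Finset.mem_univ a)]; exact h1
          simp only [Finsupp.coe_zero, Pi.zero_apply] at ha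
          by_cases hb : b = a
          · subst hb; simp; omega
          · rw [Finsupp.single_eq_of_ne hb]
            have := Finset.single_le_sum (f := fun x => g x) (fun _ _ => Nat.zero_le _) (Finset.mem_erase.2 ⟨hb, Finset.mem_univ b⟩)
            omega
      · rintro (h | ⟨a, rfl⟩)
        · omega
        · simp; omega
    have hinj : Function.Injective fun a : Fin n => Finsupp.single a (1 : ℕ) := fun a b h => by
      simpa using Finsupp.single_left_injective one_ne_zero h
    rw [e, Finset.card_union_of_disjoint, Finset.card_image_of_injective _ hinj, Finset.card_univ, Fintype.card_fin]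
    refine Finset.disjoint_left.2 fun g hg hg' => ?_
    obtain ⟨a, -, rfl⟩ := Finset.mem_image.1 hg'
    rw [mem_highExps, Finsupp.degree_single] at hg
    omega
  have := card_mon n d
  omega

variable (k) in
/-- parameters of singular forms -/
abbrev SingPar (n d : ℕ) := Fin n ⊕ {g // g ∈ highExps n d}

/-- the parametrisation -/
noncomputable def singMap (i₀ : Fin (n + 1)) (e : PlaneParam.Exps n d) : MvPolynomial (SingPar n d) k :=
  coeff (remExp i₀ e.1) (aeval (fun a => X a - C (X (Sum.inl a)))
    (∑ g : {g // g ∈ highExps n d}, monomial g.1 (X (Sum.inr g) : MvPolynomial (SingPar n d) k)))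

theorem aeval_singMap {K : Type u} [Field K] [Algebra k K] (i₀ : Fin (n + 1)) (v : Fin n → K)
    (Φ : MvPolynomial (Fin (n + 1)) K) (hΦ : Φ.IsHomogeneous d) (h0 : eval (pt i₀ v) Φ = 0)
    (h1 : ∀ i, eval (pt i₀ v) (pderiv i Φ) = 0) (e : PlaneParam.Exps n d) :
    aeval (Sum.elim v fun g => coeff g.1 (loc i₀ v Φ)) (singMap (k := k) i₀ e) = coeff e.1 Φ := by
  classical
  set θ : SingPar n d → K := Sum.elim v fun g => coeff g.1 (loc i₀ v Φ)
  let ev : MvPolynomial (SingPar n d) k →+* K := (aeval θ : MvPolynomial (SingPar n d) k →ₐ[k] K).toRingHom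
  set gu : MvPolynomial (Fin n) (MvPolynomial (SingPar n d) k) :=
    ∑ g : {g // g ∈ highExps n d}, monomial g.1 (X (Sum.inr g)) with hgudef
  have hgu : map ev gu = loc i₀ v Φ := by
    refine MvPolynomial.ext _ _ fun g => ?_
    simp only [gu, map_sum, map_monomial, coeff_sum, coeff_monomial]
    by_cases hgA : g ∈ highExps n d
    · rw [Finset.sum_eq_single (⟨g, hgA⟩ : {g // g ∈ highExps n d})
        (fun b _ hb => if_neg fun h => hb (Subtype.ext h)) (by simp), if_pos rfl]
      show aeval θ (X _) = _
      rw [aeval_X]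
      rfl
    · rw [Finset.sum_eq_zero fun b _ => if_neg (fun h : b.1 = g => hgA (h ▸ b.2))]
      rw [mem_highExps, not_and_or, not_le, not_le] at hgA
      symm
      rcases hgA with hgA | hgA
      · exact coeff_eq_zero_of_totalDegree_lt (lt_of_le_of_lt (totalDegree_loc i₀ v hΦ) hgA)
      · rcases Nat.lt_or_ge g.degree 1 with h | h
        · rw [(Finsupp.degree_eq_zero_iff g).1 (by omega), coeff_zero_loc, h0]
        · obtain ⟨a, rfl⟩ : ∃ a, g = Finsupp.single a 1 := exists_single_of_degree_one (by omega)
          rw [coeff_single_loc, h1]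
  show ev _ = _
  rw [← coeff_eq_of_shift i₀ v hΦ e, ← loc_eq_shiftAt, singMap, ← coeff_map, ← hgu, ← hgudef]
  refine congrArg _ ?_
  induction gu using MvPolynomial.induction_on with
  | C r => simp
  | add p q hp hq => simp only [map_add, hp, hq]
  | mul_X p a hp =>
    simp only [map_mul, hp, aeval_X, map_X, map_sub, map_C]
    rw [show ev (X (Sum.inl a)) = v a from aeval_X θ _]

/-- the universal singular form -/
noncomputable def uSing (i₀ : Fin (n + 1)) : MvPolynomial (Fin (n + 1)) (MvPolynomial (SingPar n d) k) :=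
  ∑ e : PlaneParam.Exps n d, monomial e.1 (singMap i₀ e)

theorem shift_uSing (i₀ : Fin (n + 1)) :
    shiftAt i₀ (fun a => X (Sum.inl a)) (uSing (k := k) (n := n) (d := d) i₀) =
      ∑ g : {g // g ∈ highExps n d}, monomial g.1 (X (Sum.inr g)) := by
  classical
  set R := MvPolynomial (SingPar n d) k
  set g₀ : MvPolynomial (Fin n) R := ∑ g : {g // g ∈ highExps n d}, monomial g.1 (X (Sum.inr g))
  set v : Fin n → R := fun a => X (Sum.inl a)
  set f := aeval (fun a => X a - C (v a)) g₀ with hf
  -- dehomogenise
  have hdeh : aeval (Fin.insertNth (α := fun _ => MvPolynomial (Fin n) R) i₀ 1 X) (uSing (k := k) (d := d) i₀) = f := by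
    refine MvPolynomial.ext _ _ fun g => ?_
    by_cases hg : g.degree ≤ d
    · obtain ⟨e, rfl⟩ : ∃ e : PlaneParam.Exps n d, remExp i₀ e.1 = g :=
        ⟨⟨Finsupp.equivFunOnFinite.symm (Fin.insertNth i₀ (d - g.degree) g), by
          rw [Finsupp.degree_eq_sum, Fin.sum_univ_succAbove _ i₀]
          simp [← Finsupp.degree_eq_sum]
          omega⟩, Finsupp.ext fun a => by simp⟩
      rw [coeff_dehom i₀ (show (uSing (k := k) (d := d) i₀).IsHomogeneous d from PlaneParam.isHomogeneous_sum _) e]
      simp only [uSing, coeff_sum, coeff_monomial]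
      rw [Finset.sum_eq_single e (fun b _ hb => if_neg fun h => hb (Subtype.ext h)) (by simp), if_pos rfl]
      rfl
    · have hL : coeff g (aeval (Fin.insertNth (α := fun _ => MvPolynomial (Fin n) R) i₀ 1 X) (uSing (k := k) (d := d) i₀)) = 0 := by
        simp only [uSing, map_sum, coeff_sum]
        refine Finset.sum_eq_zero fun e _ => ?_
        rw [aeval_monomial, Finsupp.prod_fintype _ _ (fun _ => pow_zero _), Fin.prod_univ_succAbove _ i₀]
        simp only [Fin.insertNth_apply_same, one_pow, one_mul, Fin.insertNth_apply_succAbove, algebraMap_eq]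
        rw [show algebraMap R (MvPolynomial (Fin n) R) = C from rfl, show C (singMap i₀ e) * ∏ a, X a ^ e.1 (i₀.succAbove a) = monomial (remExp i₀ e.1) (singMap (k := k) i₀ e) by
          rw [monomial_eq, Finsupp.prod_fintype _ _ (fun _ => pow_zero _)]; rfl, coeff_monomial, if_neg]
        rintro rfl
        have := degree_remExp i₀ e.1
        rw [e.2] at this
        omega
      rw [hL, hf]
      symm
      refine coeff_eq_zero_of_totalDegree_lt (lt_of_le_of_lt ?_ (not_le.1 hg))
      rw [map_sum]
      refine (totalDegree_finset_sum _ _).trans (Finset.sup_le fun b _ => ?_)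
      rw [aeval_monomial]
      refine (totalDegree_mul _ _).trans ?_
      rw [algebraMap_eq, totalDegree_C, zero_add, Finsupp.prod]
      refine (totalDegree_finset_prod _ _).trans ((Finset.sum_le_sum fun a _ => (totalDegree_pow _ _).trans
        (Nat.mul_le_mul_left _ ((totalDegree_sub_C_le _ _).trans (le_of_eq (totalDegree_X a))))).trans ?_)
      simp only [mul_one]
      exact (mem_highExps.1 b.2).1
  have : shiftAt i₀ v (uSing (k := k) (d := d) i₀) =
      aeval (fun a => X a + C (v a)) (aeval (Fin.insertNth (α := fun _ => MvPolynomial (Fin n) R) i₀ 1 X) (uSing (k := k) (d := d) i₀)) := by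
    rw [aeval_aeval', shiftAt]
    refine congrArg (fun F => aeval F (uSing (k := k) (d := d) i₀)) (funext fun j => ?_)
    induction j using Fin.succAboveCases i₀ with
    | x => simp
    | p a => simp
  rw [this, hdeh, hf, aeval_aeval']
  conv_rhs => rw [← aeval_X_left_apply g₀]
  refine congrArg (fun F => aeval F g₀) (funext fun a => ?_)
  simp

theorem singular_univ {K : Type u} [Field K] [Algebra k K] (θ : SingPar n d → K) (i₀ : Fin (n + 1)) (hd : 2 ≤ d) :
    let Φ := map (aeval θ : MvPolynomial (SingPar n d) k →ₐ[k] K).toRingHom (uSing (k := k) (d := d) i₀)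
    Φ.IsHomogeneous d ∧ (∀ g, coeff g (loc i₀ (fun a => θ (Sum.inl a)) Φ) =
      if h : g ∈ highExps n d then θ (Sum.inr ⟨g, h⟩) else 0) ∧
      eval (pt i₀ fun a => θ (Sum.inl a)) Φ = 0 ∧ ∀ i, eval (pt i₀ fun a => θ (Sum.inl a)) (pderiv i Φ) = 0 := by
  classical
  intro Φ
  set v : Fin n → K := fun a => θ (Sum.inl a)
  have hΦ : Φ.IsHomogeneous d := (PlaneParam.isHomogeneous_sum _).map _
  have hloc : ∀ g, coeff g (loc i₀ v Φ) = if h : g ∈ highExps n d then θ (Sum.inr ⟨g, h⟩) else 0 := by
    intro g
    have e : loc i₀ v Φ = map (aeval θ : MvPolynomial (SingPar n d) k →ₐ[k] K).toRingHom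
        (shiftAt i₀ (fun a => X (Sum.inl a)) (uSing (k := k) (d := d) i₀)) := by
      rw [loc_eq_shiftAt, shiftAt, shiftAt, ConeLines.map_aeval']
      refine congrArg (fun F => aeval F Φ) (funext fun j => ?_)
      induction j using Fin.succAboveCases i₀ with
      | x => simp
      | p a => simp [v]
    rw [e, shift_uSing]
    simp only [map_sum, map_monomial, coeff_sum, coeff_monomial]
    split_ifs with h
    · rw [Finset.sum_eq_single (⟨g, h⟩ : {g // g ∈ highExps n d}) (fun b _ hb => if_neg fun h' => hb (Subtype.ext h'))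
        (by simp), if_pos rfl]
      exact aeval_X θ _
    · exact Finset.sum_eq_zero fun b _ => if_neg (fun h' : b.1 = g => h (h' ▸ b.2))
  have h0 : eval (pt i₀ v) Φ = 0 := by
    rw [← coeff_zero_loc, hloc, dif_neg]
    simp [mem_highExps]
  have hs : ∀ a, eval (pt i₀ v) (pderiv (i₀.succAbove a) Φ) = 0 := fun a => by
    rw [← coeff_single_loc, hloc, dif_neg]
    simp [mem_highExps]
  refine ⟨hΦ, hloc, h0, fun i => ?_⟩
  induction i using Fin.succAboveCases i₀ with
  | x =>
    have h := congrArg (eval (pt i₀ v)) hΦ.sum_X_mul_pderiv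
    rw [map_sum, map_nsmul, h0, smul_zero, Fin.sum_univ_succAbove _ i₀] at h
    simp only [map_mul, eval_X, hs, mul_zero, Finset.sum_const_zero, add_zero] at h
    simpa [pt] using h
  | p a => exact hs a

/-- the ideal of the singular forms with singular point in a chart -/
noncomputable def discIdeal (i₀ : Fin (n + 1)) : Ideal (MvPolynomial (PlaneParam.Exps n d) k) :=
  RingHom.ker (aeval (singMap (k := k) i₀) : MvPolynomial (PlaneParam.Exps n d) k →ₐ[k] MvPolynomial (SingPar n d) k)

theorem mem_disc_of_sing [Infinite k] (i₀ : Fin (n + 1)) {G : MvPolynomial (Fin (n + 1)) k}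
    (hG : G.IsHomogeneous d) (hsing : IsSing G) {Q : MvPolynomial (PlaneParam.Exps n d) k}
    (hQ : Q ∈ discIdeal i₀) : eval (fun e => coeff e.1 G) Q = 0 := by
  classical
  obtain ⟨w, hw, h0, h1⟩ := hsing
  -- when the point is in the chart
  have hchart : ∀ (F : MvPolynomial (Fin (n + 1)) k) (u : Fin (n + 1) → k), F.IsHomogeneous d → u i₀ ≠ 0 →
      eval u F = 0 → (∀ i, eval u (pderiv i F) = 0) → eval (fun e : PlaneParam.Exps n d => coeff e.1 F) Q = 0 := by
    intro F u hF hu hu0 hu1
    let v : Fin n → k := fun a => u (i₀.succAbove a) / u i₀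
    have huv : u = u i₀ • pt i₀ v := by
      funext j
      induction j using Fin.succAboveCases i₀ with
      | x => simp [pt]
      | p a => simp [pt, v, mul_div_cancel₀ _ hu]
    have hz : ∀ {r : ℕ} (P : MvPolynomial (Fin (n + 1)) k), P.IsHomogeneous r → eval u P = 0 → eval (pt i₀ v) P = 0 := by
      intro r P hP h
      rw [huv, ConeLines.eval_smul' hP, mul_eq_zero] at h
      exact h.resolve_left (pow_ne_zero _ hu)
    have e := fun e => aeval_singMap (k := k) i₀ v F hF (hz F hF hu0) (fun i => hz _ hF.pderiv (hu1 i)) e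
    rw [show (fun e : PlaneParam.Exps n d => coeff e.1 F) = fun e => aeval (Sum.elim v fun g => coeff g.1 (loc i₀ v F))
      (singMap (k := k) i₀ e) from funext fun e' => (e e').symm]
    rw [← aeval_eq_eval, ← comp_aeval_apply]
    rw [RingHom.mem_ker.1 hQ, map_zero]
  by_cases hi : w i₀ = 0
  swap
  · exact hchart G w hG hi h0 h1
  obtain ⟨j, hj⟩ := Function.ne_iff.1 hw
  have hji : j ≠ i₀ := fun h => hj (h ▸ hi)
  -- shear the point into the chart
  let A : Fin (n + 1) → Fin (n + 1) → Polynomial k := fun a b =>
    (if a = b then 1 else 0) - if a = i₀ ∧ b = j then Polynomial.C (w j)⁻¹ * Polynomial.X else 0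
  let GX : MvPolynomial (Fin (n + 1)) (Polynomial k) := PlaneParam.substA A (map Polynomial.C G)
  let p : Polynomial k := eval₂ Polynomial.C (fun e : PlaneParam.Exps n d => coeff e.1 GX) Q
  have hGt : ∀ t : k, map (Polynomial.evalRingHom t) GX =
      PlaneParam.substA (fun a b => (if a = b then 1 else 0) - if a = i₀ ∧ b = j then (w j)⁻¹ * t else 0) G := by
    intro t
    rw [PlaneParam.map_substA, map_map,
      show (Polynomial.evalRingHom t).comp Polynomial.C = RingHom.id k from RingHom.ext fun x => Polynomial.eval_C,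
      map_id]
    refine congrArg (fun M => PlaneParam.substA M G) (funext fun a => funext fun b => ?_)
    simp only [A, map_sub]
    congr 1 <;> split_ifs <;> simp
  have hp : ∀ t : k, p.eval t = eval (fun e : PlaneParam.Exps n d => coeff e.1 (map (Polynomial.evalRingHom t) GX)) Q := by
    intro t
    show Polynomial.evalRingHom t (eval₂ _ _ Q) = _
    rw [eval₂_comp_left, show (Polynomial.evalRingHom t).comp Polynomial.C = RingHom.id k from
      RingHom.ext fun x => Polynomial.eval_C]
    refine congrArg (fun f => eval₂ (RingHom.id k) f Q) (funext fun e => ?_)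
    exact (coeff_map _ _ _).symm
  have hzero : ∀ t : k, t ≠ 0 → p.eval t = 0 := by
    intro t ht
    rw [hp, hGt]
    set M : Fin (n + 1) → Fin (n + 1) → k := fun a b => (if a = b then 1 else 0) - if a = i₀ ∧ b = j then (w j)⁻¹ * t else 0
    let w' : Fin (n + 1) → k := fun a => w a + if a = i₀ then t else 0
    have hMw : (fun a => ∑ b, M a b * w' b) = w := by
      funext a
      simp only [M, sub_mul, Finset.sum_sub_distrib, ite_mul, one_mul, zero_mul, Finset.sum_ite_eq, Finset.mem_univ,
        if_true]
      by_cases ha : a = i₀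
      · subst ha
        simp [w', hji, mul_assoc, inv_mul_cancel₀ hj, mul_comm t]
        rw [← mul_assoc, inv_mul_cancel₀ hj]; ring
      · simp [w', ha]
    refine hchart _ w' (PlaneParam.isHomogeneous_substA _ hG) (by simp [w', hi, ht]) ?_ fun i => ?_
    · rw [PlaneParam.eval_substA, hMw, h0]
    · show eval w' (pderiv i (aeval (fun a => ∑ b, C (M a b) * X b) G)) = 0
      rw [PlaneParam.pderiv_aeval', map_sum]
      refine Finset.sum_eq_zero fun a _ => ?_
      rw [map_mul, show eval w' (aeval (fun a => ∑ b, C (M a b) * X b) (pderiv a G)) = eval w (pderiv a G) by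
        rw [← hMw, ← PlaneParam.eval_substA]; rfl, h1 a, zero_mul]
  have hp0 : p = 0 := Polynomial.eq_zero_of_infinite_isRoot p
    ((Set.finite_singleton (0 : k)).infinite_compl.mono fun t ht => hzero t ht)
  have := hp 0
  rw [hp0, Polynomial.eval_zero, hGt] at this
  refine Eq.trans (congrArg (fun F => eval (fun e : PlaneParam.Exps n d => coeff e.1 F) Q) ?_) this.symm
  refine MvPolynomial.funext fun y => ?_
  rw [PlaneParam.eval_substA]
  refine congrArg (fun z => eval z G) (funext fun a => ?_)
  simp

theorem sing_of_mem_disc [IsAlgClosed k] (hd : 2 ≤ d) (i₀ : Fin (n + 1)) {G : MvPolynomial (Fin (n + 1)) k}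
    (hG : G.IsHomogeneous d)
    (h : ∀ Q ∈ discIdeal (k := k) (n := n) (d := d) i₀, eval (fun e => coeff e.1 G) Q = 0) : IsSing G := by
  classical
  let R := MvPolynomial (SingPar n d) k
  let F := FractionRing R
  let θ : SingPar n d → F := fun s => algebraMap R F (X s)
  have hθ : ∀ P : R, aeval θ P = algebraMap R F P := fun P => by
    rw [show θ = fun s => (IsScalarTower.toAlgHom k R F) (X s) from rfl, ← comp_aeval_apply, aeval_X_left_apply]
    rfl
  obtain ⟨-, -, h0, h1⟩ := singular_univ (k := k) θ i₀ hd
  set Φ := map (aeval θ : R →ₐ[k] F).toRingHom (uSing (k := k) (d := d) i₀)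
  let x : PlaneParam.Exps n d → F := fun e => aeval θ (singMap (k := k) i₀ e)
  let U : MvPolynomial (Fin (n + 1)) (MvPolynomial (PlaneParam.Exps n d) k) := ∑ e : PlaneParam.Exps n d, monomial e.1 (X e)
  have hUΦ : map (aeval x : _ →ₐ[k] F).toRingHom U = Φ := by
    simp only [U, Φ, uSing, map_sum, map_monomial]
    exact Finset.sum_congr rfl fun e _ => congrArg _ (aeval_X x e)
  have hUG : map (eval fun e : PlaneParam.Exps n d => coeff e.1 G) U = G := by
    conv_rhs => rw [PlaneParam.eq_sum_exps hG]
    simp [U]
  let H : Option (Fin (n + 1)) → MvPolynomial (Fin (n + 1)) (MvPolynomial (PlaneParam.Exps n d) k) :=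
    fun o => o.elim U fun i => pderiv i U
  have hU : U.IsHomogeneous d := PlaneParam.isHomogeneous_sum _
  obtain ⟨z, hz, hzz⟩ := specialize x (fun e => coeff e.1 G) (fun Q hQ => h Q (by
      rw [discIdeal, RingHom.mem_ker]
      refine IsFractionRing.injective R F ?_
      rw [map_zero, ← hθ, comp_aeval_apply]
      exact hQ)) (fun o : Option (Fin (n + 1)) => o.elim d fun _ => d - 1) H
    (fun o => by cases o with | none => exact hU | some i => exact hU.pderiv)
    (pt i₀ fun a => θ (Sum.inl a)) (fun hpt => by simpa [pt] using congrFun hpt i₀) (fun o => by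
      cases o with
      | none => simp only [H, Option.elim_none, hUΦ]; exact h0
      | some i => simp only [H, Option.elim_some, ← pderiv_map, hUΦ]; exact h1 i)
  refine ⟨z, hz, ?_, fun i => ?_⟩
  · have := hzz none
    simpa only [H, Option.elim_none, hUG] using this
  · have := hzz (some i)
    simpa only [H, Option.elim_some, ← pderiv_map, hUG] using this

theorem isPrincipal_of_height_le_one {A : Type u} [CommRing A] [IsDomain A] [UniqueFactorizationMonoid A]
    [IsNoetherianRing A] {p : Ideal A} [p.IsPrime] (h0 : p ≠ ⊥) (h1 : p.height ≤ 1) :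
    ∃ q, Prime q ∧ p = Ideal.span {q} := by
  obtain ⟨q, hq, hqp⟩ := Ideal.IsPrime.exists_mem_prime_of_ne_bot ‹p.IsPrime› h0
  refine ⟨q, hqp, le_antisymm ?_ ((Ideal.span_singleton_le_iff_mem p).2 hq)⟩
  by_contra hle
  haveI : (Ideal.span {q}).IsPrime := (Ideal.span_singleton_prime hqp.ne_zero).2 hqp
  have hlt : Ideal.span {q} < p := lt_of_le_not_ge ((Ideal.span_singleton_le_iff_mem p).2 hq) hle
  have h2 := Ideal.height_strict_mono_of_isPrime hlt
  have h3 : (1 : ℕ∞) ≤ (Ideal.span {q}).height := by
    rw [ENat.one_le_iff_ne_zero, Ne, Ideal.height_eq_zero_iff_eq_bot, Ideal.span_singleton_eq_bot]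
    exact hqp.ne_zero
  exact absurd (h2.trans_le h1) (not_lt.2 h3)

set_option maxHeartbeats 800000 in
/-- the discriminant -/
theorem exists_discriminant [IsAlgClosed k] (hn : 1 ≤ n) (hd : 2 ≤ d) :
    ∃ Δ : MvPolynomial (PlaneParam.Exps n d) k, Irreducible Δ ∧ ∀ G : MvPolynomial (Fin (n + 1)) k, G.IsHomogeneous d →
      (IsSing G ↔ eval (fun e => coeff e.1 G) Δ = 0) := by
  classical
  obtain ⟨m, rfl⟩ := Nat.exists_eq_add_of_le' hn
  let i₀ : Fin (m + 1 + 1) := 0
  let R := MvPolynomial (SingPar (m + 1) d) k
  let K := AlgebraicClosure (FractionRing R)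
  let emb : R →ₐ[k] K := IsScalarTower.toAlgHom k R K
  have hemb : Function.Injective emb := by
    show Function.Injective (algebraMap R K)
    rw [IsScalarTower.algebraMap_eq R (FractionRing R) K, RingHom.coe_comp]
    exact (RingHom.injective _).comp (IsFractionRing.injective R (FractionRing R))
  let θ : SingPar (m + 1) d → K := fun s => emb (X s)
  have hθind : AlgebraicIndependent k θ := (MvPolynomial.algebraicIndependent_X _ k).map' hemb
  obtain ⟨hΦ, hloc, h0, h1⟩ := singular_univ (k := k) θ i₀ hd
  set Φ := map (aeval θ : R →ₐ[k] K).toRingHom (uSing (k := k) (d := d) i₀)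
  let γ : PlaneParam.Exps (m + 1) d → K := fun e => aeval θ (singMap (k := k) i₀ e)
  set E0 := IntermediateField.adjoin k (Set.range γ)
  have hcoef : ∀ e, coeff e Φ ∈ E0 := by
    intro e
    simp only [Φ, uSing, map_sum, map_monomial, coeff_sum, coeff_monomial]
    refine sum_mem fun b _ => ?_
    split_ifs
    · exact IntermediateField.subset_adjoin k _ ⟨b, rfl⟩
    · exact zero_mem _
  obtain ⟨Φ0, hΦ0⟩ := ConeLines.exists_map_eq E0 Φ hcoef
  have hΦ0h : Φ0.IsHomogeneous d := fun e he => hΦ (by
    rw [← hΦ0, coeff_map]; exact (map_ne_zero_iff _ (RingHom.injective (algebraMap E0 K))).2 he)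
  -- the top form
  let top0 : MvPolynomial (Fin (m + 1)) E0 := aeval (Fin.insertNth (α := fun _ => MvPolynomial (Fin (m + 1)) E0) i₀ 0 X) Φ0
  have htop0h : top0.IsHomogeneous d := by
    have h := hΦ0h.aeval (m := d) (n := 1)
      (g := Fin.insertNth (α := fun _ => MvPolynomial (Fin (m + 1)) E0) i₀ 0 X) (fun j => by
        induction j using Fin.succAboveCases i₀ with
        | x => simp [isHomogeneous_zero]
        | p a => simp [isHomogeneous_X])
    simpa [top0] using h
  have htopK : map (algebraMap E0 K) top0 = aeval (Fin.insertNth (α := fun _ => MvPolynomial (Fin (m + 1)) K) i₀ 0 X) Φ := by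
    rw [ConeLines.map_aeval', hΦ0]
    refine congrArg (fun F => aeval F Φ) (funext fun j => ?_)
    induction j using Fin.succAboveCases i₀ with
    | x => simp
    | p a => simp
  set topK := map (algebraMap E0 K) top0 with htopKdef
  -- it is smooth
  have hsmooth : ∀ l : Fin (m + 1) → K, eval l topK = 0 → (∀ a, eval l (pderiv a topK) = 0) → l = 0 := by
    intro l hl0 hl1
    by_contra hl
    obtain ⟨a, ha⟩ := Function.ne_iff.1 hl
    obtain ⟨P, hP0, hP⟩ := exists_singular_relation (n := m) (k := k) hd ∅ (by simp) a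
    have hz := hP K l topK (htop0h.map _) ha (fun h => absurd h (Finset.notMem_empty _))
      (fun e he => absurd (show e.1.degree = 0 by rw [Finsupp.degree_eq_sum]; exact Finset.sum_eq_zero fun j _ => he j (Finset.notMem_empty _)) (by rw [e.2]; omega))
      hl0 hl1
    have hmem : ∀ o : Off (∅ : Finset (Fin (m + 1))) d, o.1.1 ∈ highExps (m + 1) d := fun o =>
      mem_highExps.2 ⟨o.1.2.le, by rw [o.1.2]; exact hd⟩
    have htc : (fun o : Off (∅ : Finset (Fin (m + 1))) d => coeff o.1.1 topK) =
        fun o => emb (X (Sum.inr ⟨o.1.1, hmem o⟩)) := funext fun o => by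
      rw [htopK, ← coeff_top_loc i₀ (fun a => θ (Sum.inl a)) hΦ o.1.2, hloc, dif_pos (hmem o)]
    rw [htc, ← comp_aeval_apply, ← map_zero emb] at hz
    have hren : aeval (fun o : Off (∅ : Finset (Fin (m + 1))) d => (X (Sum.inr ⟨o.1.1, hmem o⟩) : R)) P =
        rename (fun o => Sum.inr ⟨o.1.1, hmem o⟩) P := AlgHom.congr_fun (MvPolynomial.algHom_ext fun o => by simp) P
    have h2 := hemb hz
    rw [hren] at h2
    refine hP0 (rename_injective _ (fun o o' h => Subtype.ext (Subtype.ext ?_)) (h2.trans (map_zero _).symm))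
    have h' := Sum.inr.inj h
    exact Subtype.mk_eq_mk.1 h'
  -- the point is algebraic over the coefficients
  have halg : ∀ s, IsAlgebraic E0 (θ s) := by
    set v : Fin (m + 1) → K := fun a => θ (Sum.inl a) with hv
    let lift0 : MvPolynomial (Fin (m + 1 + 1)) E0 →ₐ[E0] MvPolynomial (Fin (m + 1)) E0 :=
      aeval fun j => (∑ a, C (if j = i₀.succAbove a then 1 else 0) * X a) + C (if j = i₀ then 1 else 0)
    have hlin : (fun j => ∑ a, C (if j = i₀.succAbove a then (1 : E0) else 0) * X a : Fin (m + 1 + 1) → MvPolynomial (Fin (m + 1)) E0) =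
        Fin.insertNth (α := fun _ => MvPolynomial (Fin (m + 1)) E0) i₀ 0 X := funext fun j => by
      induction j using Fin.succAboveCases i₀ with
      | x => simp
      | p a =>
        rw [Fin.insertNth_apply_succAbove, Finset.sum_eq_single a (fun b _ hb => by simp [hb.symm]) (by simp)]
        simp
    have hpt : pt i₀ v = fun j => (∑ a, (if j = i₀.succAbove a then (1 : K) else 0) * v a) + if j = i₀ then 1 else 0 := by
      funext j
      induction j using Fin.succAboveCases i₀ with
      | x => simp [pt]
      | p a =>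
        rw [Finset.sum_eq_single a (fun b _ hb => by simp [hb.symm]) (by simp)]
        simp [pt, Fin.succAbove_ne]
    have hev : ∀ P : MvPolynomial (Fin (m + 1 + 1)) E0, aeval v (lift0 P) = eval (pt i₀ v) (map (algebraMap E0 K) P) := by
      intro P
      rw [hpt, eval_map]
      induction P using MvPolynomial.induction_on with
      | C r => simp
      | add p q hp hq => simp only [map_add, hp, hq, eval₂_add]
      | mul_X p j hp =>
        simp only [map_mul, hp, eval₂_mul, eval₂_X]
        congr 1
        simp [lift0, apply_ite (algebraMap E0 K)]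
        exact Finset.sum_congr rfl fun x _ => by split_ifs <;> simp
    have hdeh : ∀ (r : ℕ) (P : MvPolynomial (Fin (m + 1 + 1)) E0), P.IsHomogeneous r →
        DegLT r (lift0 P - aeval (Fin.insertNth (α := fun _ => MvPolynomial (Fin (m + 1)) E0) i₀ 0 X) P) := by
      intro r P hP
      rw [← hlin]
      exact affine_subst (fun j a => if j = i₀.succAbove a then (1 : E0) else 0) (fun j => if j = i₀ then 1 else 0) hP
    have hTd : ∀ a, aeval (Fin.insertNth (α := fun _ => MvPolynomial (Fin (m + 1)) E0) i₀ 0 X) (pderiv (i₀.succAbove a) Φ0) =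
        pderiv a top0 := fun a => by
      simp only [top0]
      rw [PlaneParam.pderiv_aeval', Finset.sum_eq_single (i₀.succAbove a)]
      · simp
      · intro j _ hj
        induction j using Fin.succAboveCases i₀ with
        | x => simp
        | p b =>
          have : b ≠ a := fun h => hj (h ▸ rfl)
          simp [pderiv_X_of_ne this]
      · simp
    have hint := fun a => isIntegral_of_top (E := E0) (K := K) (S := E0) (A := K)
      (fun o : Option (Fin (m + 1)) => o.elim d fun _ => d - 1)
      (fun o => o.elim top0 fun a => pderiv a top0)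
      (fun o => by cases o with | none => exact htop0h | some a => exact htop0h.pderiv)
      (fun l hl => hsmooth l (by
          have := hl none
          rw [aeval_def, ← eval_map] at this
          exact this) fun b => by
          have := hl (some b)
          simp only [Option.elim_some] at this
          rw [aeval_def, ← eval_map, ← pderiv_map] at this
          exact this)
      (fun o => o.elim (lift0 Φ0) fun a => lift0 (pderiv (i₀.succAbove a) Φ0))
      (fun o => by
        rw [Algebra.algebraMap_self, map_id]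
        cases o with
        | none => exact hdeh d Φ0 hΦ0h
        | some a =>
          show DegLT (d - 1) (lift0 (pderiv (i₀.succAbove a) Φ0) - pderiv a top0)
          rw [← hTd a]
          exact hdeh (d - 1) _ hΦ0h.pderiv)
      v (fun o => by
        cases o with
        | none => simp only [Option.elim_none, hev, hΦ0]; exact h0
        | some a => simp only [Option.elim_some, hev, ← pderiv_map, hΦ0]; exact h1 _) a
    intro s
    cases s with
    | inl a => exact (hint a).isAlgebraic
    | inr g =>
      set E1 := (algebraicClosure E0 K).restrictScalars k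
      have hE01 : ∀ x, x ∈ E0 → x ∈ E1 := fun x hx => by
        rw [IntermediateField.mem_restrictScalars, mem_algebraicClosure_iff]
        exact isAlgebraic_algebraMap (⟨x, hx⟩ : E0)
      have hvE : ∀ a, v a ∈ E1 := fun a => by
        rw [IntermediateField.mem_restrictScalars, mem_algebraicClosure_iff]
        exact (hint a).isAlgebraic
      obtain ⟨Φ1, hΦ1⟩ := ConeLines.exists_map_eq E1 Φ fun e => hE01 _ (hcoef e)
      have e : loc i₀ v Φ = map (algebraMap E1 K) (shiftAt i₀ (fun a => (⟨v a, hvE a⟩ : E1)) Φ1) := by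
        rw [loc_eq_shiftAt, shiftAt, shiftAt, ConeLines.map_aeval', hΦ1]
        refine congrArg (fun F => aeval F Φ) (funext fun j => ?_)
        induction j using Fin.succAboveCases i₀ with
        | x => simp
        | p a => simp
      have hg := hloc g.1
      rw [dif_pos g.2, e, coeff_map] at hg
      have : θ (Sum.inr g) ∈ E1 := hg ▸ SetLike.coe_mem _
      rwa [IntermediateField.mem_restrictScalars, mem_algebraicClosure_iff] at this
  have htr := card_le_trdeg_of_isAlgebraic θ hθind γ halg
  -- the ideal
  let Ψ : MvPolynomial (PlaneParam.Exps (m + 1) d) k →ₐ[k] R := aeval (singMap (k := k) i₀)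
  set p := discIdeal (k := k) (n := m + 1) (d := d) i₀
  haveI : p.IsPrime := RingHom.ker_isPrime _
  have hcard : Fintype.card (SingPar (m + 1) d) + 1 = Fintype.card (PlaneParam.Exps (m + 1) d) := by
    rw [Fintype.card_sum, Fintype.card_fin, Fintype.card_coe, PlaneParam.card_exps]
    have := card_highExps (n := m + 1) (d := d) (by omega)
    omega
  have hp0 : p ≠ ⊥ := by
    obtain ⟨P, hP, hP0⟩ := PlaneParam.exists_relation (k := k) (κ := SingPar (m + 1) d) (by omega) (singMap (k := k) i₀)
    exact fun h => hP ((Submodule.mem_bot (MvPolynomial (PlaneParam.Exps (m + 1) d) k)).1 (by rw [← h]; exact RingHom.mem_ker.2 hP0))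
  have hht : p.height ≤ 1 := by
    have e : (Algebra.adjoin k (Set.range γ) : Subalgebra k K) = (emb.comp Ψ).range := by
      rw [Algebra.adjoin_range_eq_range_aeval]
      refine congrArg AlgHom.range (MvPolynomial.algHom_ext fun e => ?_)
      show aeval γ (X e) = emb (Ψ (X e))
      rw [aeval_X, show Ψ (X e) = singMap i₀ e from aeval_X _ _]
      show aeval θ (singMap i₀ e) = emb (singMap (k := k) i₀ e)
      rw [← comp_aeval_apply, aeval_X_left_apply]
    have hker : RingHom.ker (emb.comp Ψ) = p := by
      ext Q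
      simp only [RingHom.mem_ker, AlgHom.comp_apply, p, discIdeal]
      rw [map_eq_zero_iff _ hemb]
    let Q := MvPolynomial (PlaneParam.Exps (m + 1) d) k ⧸ p
    let iso : Q ≃ₐ[k] Algebra.adjoin k (Set.range γ) :=
      (Ideal.quotientEquivAlgOfEq k hker.symm).trans
        ((Ideal.quotientKerEquivRange (emb.comp Ψ)).trans (Subalgebra.equivOfEq _ _ e.symm))
    obtain ⟨r, hr, hrt⟩ := VarDim.exists_dim_eq_trdeg k Q
    rw [← iso.trdeg_eq, hrt] at htr
    have hr' : Fintype.card (SingPar (m + 1) d) ≤ r := by exact_mod_cast htr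
    have hform := VarDim.height_add_coheight_eq k (Fintype.card (PlaneParam.Exps (m + 1) d))
      (MvPolynomial (PlaneParam.Exps (m + 1) d) k)
      (by rw [MvPolynomial.ringKrullDim_of_isNoetherianRing, ringKrullDim_eq_zero_of_field, zero_add]; simp) ⟨p, ‹_›⟩
    have hco : Order.coheight (⟨p, ‹_›⟩ : PrimeSpectrum (MvPolynomial (PlaneParam.Exps (m + 1) d) k)) = (r : ℕ∞) := by
      apply WithBot.coe_injective
      rw [VarDim.coheight_eq_ringKrullDim_quotient]
      exact hr
    rw [hco, ← PrimeSpectrum.height_eq_orderHeight] at hform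
    change p.height + (r : ℕ∞) = _ at hform
    generalize p.height = q at hform ⊢
    cases q with
    | top => simp at hform
    | coe q => norm_cast at hform ⊢; omega
  obtain ⟨Δ, hΔ, hpΔ⟩ := isPrincipal_of_height_le_one hp0 hht
  refine ⟨Δ, hΔ.irreducible, fun G hG => ⟨fun h => ?_, fun h => ?_⟩⟩
  · exact mem_disc_of_sing i₀ hG h (hpΔ ▸ Ideal.mem_span_singleton_self Δ : Δ ∈ p)
  · refine sing_of_mem_disc hd i₀ hG fun Q hQ => ?_
    obtain ⟨c, rfl⟩ := Ideal.mem_span_singleton'.1 (hpΔ ▸ hQ : Q ∈ Ideal.span {Δ})
    rw [map_mul, h, mul_zero]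

end Groth.Agent.SingForms
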