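import Groth.Agent.SingForms.Basic
import Groth.Agent.PlaneParam.Generic

/-! A general form through a linear space is smooth. -/

namespace Groth.Agent.SingForms

open MvPolynomial

universe u

variable (k : Type u) [Field k] {n d : ℕ}

theorem exists_adapted (U : Submodule k (Fin (n + 1) → k)) :
    ∃ (S : Finset (Fin (n + 1))) (e : (Fin (n + 1) → k) ≃ₗ[k] (Fin (n + 1) → k)),
      S.card = Module.finrank k ↥U ∧ ∀ x, e x ∈ U ↔ ∀ j, j ∉ S → x j = 0 := by
  classical
  obtain ⟨C, hC⟩ := Submodule.exists_isCompl U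
  have hdim : Module.finrank k ↥U + Module.finrank k ↥C = n + 1 := by
    rw [Submodule.finrank_add_eq_of_isCompl hC, Module.finrank_fin_fun]
  let σ : Fin (Module.finrank k ↥U) ⊕ Fin (Module.finrank k ↥C) ≃ Fin (n + 1) := finSumFinEquiv.trans (finCongr hdim)
  let b := (((Module.finBasis k U).prod (Module.finBasis k C)).map (Submodule.prodEquivOfIsCompl U C hC)).reindex σ
  refine ⟨Finset.univ.image (σ ∘ Sum.inl), b.equivFun.symm, ?_, fun x => ?_⟩
  · rw [Finset.card_image_of_injective _ (σ.injective.comp Sum.inl_injective), Finset.card_univ, Fintype.card_fin]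
  have hb : ∀ i, (b (σ (Sum.inl i)) : Fin (n + 1) → k) ∈ U := fun i => by simp [b]
  constructor
  · intro hx j hj
    obtain ⟨s, rfl⟩ := σ.surjective j
    cases s with
    | inl i => exact absurd (Finset.mem_image.2 ⟨i, Finset.mem_univ _, rfl⟩) hj
    | inr i =>
      set p := (Submodule.prodEquivOfIsCompl U C hC).symm (b.equivFun.symm x) with hp
      have h2 : p.2 = 0 := (Submodule.prodEquivOfIsCompl_symm_apply_snd_eq_zero U C hC).2 hx
      have key : ∀ y, b.repr y (σ (Sum.inr i)) =
          ((Module.finBasis k C).repr ((Submodule.prodEquivOfIsCompl U C hC).symm y).2) i := fun y => by simp [b]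
      have hr := key (b.equivFun.symm x)
      rw [← hp] at hr
      rw [h2, map_zero, Finsupp.coe_zero, Pi.zero_apply, ← Module.Basis.equivFun_apply, LinearEquiv.apply_symm_apply] at hr
      exact hr
  · intro h
    rw [Module.Basis.equivFun_symm_apply]
    refine sum_mem fun j _ => ?_
    by_cases hj : j ∈ Finset.univ.image (σ ∘ Sum.inl)
    · obtain ⟨i, -, rfl⟩ := Finset.mem_image.1 hj
      exact U.smul_mem _ (hb i)
    · rw [h j hj, zero_smul]; exact zero_mem _

set_option maxHeartbeats 800000 in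
theorem generic_smooth [IsAlgClosed k] (hd : 2 ≤ d) (U : Submodule k (Fin (n + 1) → k))
    (hU : 2 * Module.finrank k ↥U ≤ n + 1)
    (W : Submodule k (LefPen.Form n k d)) (hW : ∀ G : LefPen.Form n k d, G ∈ W ↔ ∀ u ∈ U, eval u G.1 = 0) :
    LefPen.IsGeneric k {G : ↥W | ∀ v : Fin (n + 1) → k, v ≠ 0 → eval v G.1.1 = 0 →
      ∃ i : Fin (n + 1), eval v (pderiv i G.1.1) ≠ 0} := by
  classical
  obtain ⟨S, e, hScard, hS⟩ := exists_adapted k U
  let M : Fin (n + 1) → Fin (n + 1) → k := fun j i => e (Pi.single i 1) j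
  let Mi : Fin (n + 1) → Fin (n + 1) → k := fun j i => e.symm (Pi.single i 1) j
  have hM : ∀ x, (fun j => ∑ i, M j i * x i) = e x := fun x => by
    funext j
    conv_rhs => rw [pi_eq_sum_univ' x, map_sum]
    simp [M, Finset.sum_apply, mul_comm]
  have hMi : ∀ x, (fun j => ∑ i, Mi j i * x i) = e.symm x := fun x => by
    funext j
    conv_rhs => rw [pi_eq_sum_univ' x, map_sum]
    simp [Mi, Finset.sum_apply, mul_comm]
  choose P hP0 hP using fun i₀ => exists_singular_relation (k := k) (d := d) hd S (by rw [hScard]; exact hU) i₀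
  let T : MvPolynomial (Fin (n + 1)) k →ₗ[k] MvPolynomial (Fin (n + 1)) k := (PlaneParam.substA M).toLinearMap
  let co : ↥W → Off S d → k := fun G o => coeff o.1.1 (T G.1.1)
  let L : Off S d → Module.Dual k ↥W := fun o => (lcoeff k o.1.1).comp (T.comp ((Submodule.subtype _).comp W.subtype))
  have hL : ∀ o G, L o G = co G o := fun o G => rfl
  have hpoly : ∀ Q : MvPolynomial (Off S d) k, LefPen.IsPolyFun k fun G : ↥W => eval (co G) Q := fun Q => by
    show _ ∈ Algebra.adjoin k _
    induction Q using MvPolynomial.induction_on with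
    | C a =>
      rw [show (fun G : ↥W => eval (co G) (C a)) = algebraMap k (↥W → k) a from funext fun G => eval_C a]
      exact Subalgebra.algebraMap_mem _ a
    | add p q hp hq =>
      rw [show (fun G : ↥W => eval (co G) (p + q)) = (fun G => eval (co G) p) + fun G => eval (co G) q from
        funext fun G => map_add _ _ _]
      exact add_mem hp hq
    | mul_X p o hp =>
      rw [show (fun G : ↥W => eval (co G) (p * X o)) = (fun G => eval (co G) p) * ⇑(L o) from
        funext fun G => by rw [map_mul, eval_X, Pi.mul_apply, hL]]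
      exact mul_mem hp (Algebra.subset_adjoin ⟨L o, rfl⟩)
  have hsurj : ∀ c : Off S d → k, ∃ G : ↥W, co G = c := by
    intro c
    let f : MvPolynomial (Fin (n + 1)) k := ∑ o : Off S d, monomial o.1.1 (c o)
    have hf : f.IsHomogeneous d := IsHomogeneous.sum _ _ _ fun o _ => isHomogeneous_monomial _ o.1.2
    have hTT : T (PlaneParam.substA Mi f) = f := MvPolynomial.funext fun x => by
      show eval x (PlaneParam.substA M _) = _
      rw [PlaneParam.eval_substA, hM, PlaneParam.eval_substA, hMi, LinearEquiv.symm_apply_apply]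
    let G : LefPen.Form n k d := ⟨PlaneParam.substA Mi f, PlaneParam.isHomogeneous_substA _ hf⟩
    have hGW : G ∈ W := (hW G).2 fun u hu => by
      obtain ⟨x, rfl⟩ := e.surjective u
      show eval (e x) (PlaneParam.substA Mi f) = 0
      rw [PlaneParam.eval_substA, hMi, LinearEquiv.symm_apply_apply, map_sum]
      refine Finset.sum_eq_zero fun o _ => ?_
      obtain ⟨j, hj, hj'⟩ : ∃ j, j ∉ S ∧ o.1.1 j ≠ 0 := by simpa [SuppIn] using o.2
      rw [eval_monomial, Finsupp.prod, Finset.prod_eq_zero (Finsupp.mem_support_iff.2 hj')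
        (by rw [(hS x).1 hu j hj, zero_pow hj']), mul_zero]
    refine ⟨⟨G, hGW⟩, funext fun o => ?_⟩
    show coeff o.1.1 (T (PlaneParam.substA Mi f)) = c o
    rw [hTT]
    simp only [f, coeff_sum, coeff_monomial]
    rw [Finset.sum_eq_single o (fun b _ hb => if_neg fun h => hb (Subtype.ext (Subtype.ext h))) (by simp), if_pos rfl]
  obtain ⟨c, hc⟩ : ∃ c, eval c (∏ i₀, P i₀) ≠ 0 := by
    by_contra! hall
    exact (Finset.prod_ne_zero_iff.2 fun i _ => hP0 i) (MvPolynomial.funext fun x => by rw [hall, map_zero])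
  obtain ⟨G₀, hG₀⟩ := hsurj c
  refine ⟨_, hpoly (∏ i₀, P i₀), ⟨G₀, by rw [hG₀]; exact hc⟩, fun G hG v hv h0 => ?_⟩
  by_contra! hder
  obtain ⟨w, rfl⟩ := e.surjective v
  have hw : w ≠ 0 := fun h => hv (by rw [h, map_zero])
  obtain ⟨i₀, hi₀, hi₀S⟩ : ∃ i₀, w i₀ ≠ 0 ∧ (i₀ ∈ S → ∀ j, j ∉ S → w j = 0) := by
    by_cases h : ∀ j, j ∉ S → w j = 0
    · obtain ⟨i, hi⟩ := Function.ne_iff.1 hw
      exact ⟨i, hi, fun _ => h⟩
    · push Not at h
      obtain ⟨j, hj, hj'⟩ := h
      exact ⟨j, hj', fun hjS => absurd hjS hj⟩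
  refine hG ?_
  rw [map_prod]
  refine Finset.prod_eq_zero (Finset.mem_univ i₀) ?_
  have hres : ∀ o : PlaneParam.Exps n d, SuppIn S o.1 → coeff o.1 (T G.1.1) = 0 := by
    have hz : restr S (T G.1.1) = 0 := MvPolynomial.funext fun x => by
      rw [map_zero, restr, ConeLines.eval_aeval]
      show eval _ (PlaneParam.substA M G.1.1) = 0
      rw [PlaneParam.eval_substA, hM]
      refine (hW G.1).1 G.2 _ ((hS _).2 fun j hj => ?_)
      simp [hj]
    intro o ho
    have := congrArg (coeff o.1) hz
    rwa [coeff_restr, if_pos ho, coeff_zero] at this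
  refine hP i₀ k w (T G.1.1) (PlaneParam.isHomogeneous_substA _ G.1.2) hi₀ hi₀S hres ?_ fun i => ?_
  · show eval w (PlaneParam.substA M G.1.1) = 0
    rw [PlaneParam.eval_substA, hM]; exact h0
  · show eval w (pderiv i (aeval (fun j => ∑ i, C (M j i) * X i) G.1.1)) = 0
    rw [PlaneParam.pderiv_aeval', map_sum]
    refine Finset.sum_eq_zero fun j _ => ?_
    rw [map_mul, show eval w (aeval (fun j => ∑ i, C (M j i) * X i) (pderiv j G.1.1)) = eval (e w) (pderiv j G.1.1) by
      rw [← hM, ← PlaneParam.eval_substA]; rfl, hder j, zero_mul]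

end Groth.Agent.SingForms
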